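import Mathlib.RingTheory.MvPowerSeries.Inverse
import Mathlib.RingTheory.MvPowerSeries.Basic
import Mathlib.RingTheory.LocalRing.ResidueField.Basic
import Mathlib.Data.Finsupp.Antidiagonal
import Mathlib.RingTheory.AdicCompletion.LocalRing
import Mathlib.RingTheory.Filtration

/-! The thickness ideal of a formal node is unique. -/

set_option linter.style.header false
set_option linter.style.haveILetI false

namespace DualGr22

open MvPowerSeries

variable {S : Type*} [CommRing S]

lemma coeff_single_one_mul (s : Fin 2) (φ ψ : MvPowerSeries (Fin 2) S) :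
    coeff (Finsupp.single s 1) (φ * ψ) =
      constantCoeff φ * coeff (Finsupp.single s 1) ψ +
        coeff (Finsupp.single s 1) φ * constantCoeff ψ := by
  classical
  simp [coeff_mul, Finsupp.antidiagonal_single, Finset.Nat.antidiagonal_succ]

lemma exists_decomp (w : MvPowerSeries (Fin 2) S) :
    ∃ p q : MvPowerSeries (Fin 2) S, w = C (constantCoeff w) + X 0 * p + X 1 * q := by
  classical
  let w' : MvPowerSeries (Fin 2) S := fun d => if d 0 = 0 then coeff d w else 0
  have hw' : ∀ d, coeff d w' = if d 0 = 0 then coeff d w else 0 := fun _ => rfl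
  have h0 : (X 0 : MvPowerSeries (Fin 2) S) ∣ w - w' := by
    rw [X_dvd_iff]
    intro d hd
    rw [map_sub, hw', if_pos hd, sub_self]
  have h1 : (X 1 : MvPowerSeries (Fin 2) S) ∣ w' - C (constantCoeff w) := by
    rw [X_dvd_iff]
    intro d hd
    rw [map_sub, hw', coeff_C]
    by_cases hd0 : d 0 = 0
    · have : d = 0 := by
        ext i; fin_cases i
        · exact hd0
        · exact hd
      subst this
      simp
    · have : d ≠ 0 := fun h => hd0 (by rw [h]; rfl)
      simp [hd0, this]
  obtain ⟨p, hp⟩ := h0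
  obtain ⟨q, hq⟩ := h1
  exact ⟨p, q, by rw [← hp, ← hq]; ring⟩

/-- The ideal of a node of thickness `a`. -/
noncomputable abbrev J (a : S) : Ideal (MvPowerSeries (Fin 2) S) :=
  Ideal.span {(MvPowerSeries.X 0 * MvPowerSeries.X 1 - MvPowerSeries.C a :
    MvPowerSeries (Fin 2) S)}

lemma constantCoeff_mem_of_not_isUnit [IsLocalRing S] (a : S) {w : MvPowerSeries (Fin 2) S}
    (hw : ¬ IsUnit (Ideal.Quotient.mk (J a) w)) :
    constantCoeff w ∈ IsLocalRing.maximalIdeal S := by
  by_contra h
  apply hw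
  apply IsUnit.map
  rw [MvPowerSeries.isUnit_iff_constantCoeff]
  simpa using h

lemma not_isUnit_mk_X [IsLocalRing S] {a : S} (ha : a ∈ IsLocalRing.maximalIdeal S) (s : Fin 2) :
    ¬ IsUnit (Ideal.Quotient.mk (J a) (X s)) := by
  intro h
  obtain ⟨v, hv⟩ := isUnit_iff_exists_inv.mp h
  obtain ⟨v, rfl⟩ := Ideal.Quotient.mk_surjective v
  rw [← map_mul, ← map_one (Ideal.Quotient.mk (J a)), Ideal.Quotient.mk_eq_mk_iff_sub_mem,
    Ideal.mem_span_singleton'] at hv
  obtain ⟨g, hg⟩ := hv
  have h1 := congrArg constantCoeff hg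
  simp only [map_mul, map_sub, constantCoeff_X, zero_mul, constantCoeff_C, map_one, mul_zero,
    zero_sub, mul_neg, neg_inj] at h1
  exact (IsLocalRing.maximalIdeal.isMaximal S).ne_top
    (Ideal.eq_top_of_isUnit_mem _ (Ideal.mul_mem_left _ (constantCoeff g) ha) (h1 ▸ isUnit_one))

/-- Core: an isomorphism of node rings fixing `a` and sending `m` into `m` forces `a ∈ (b)`. -/
theorem mem_span_of_iso [IsLocalRing S] {a b : S} (ha : a ∈ IsLocalRing.maximalIdeal S)
    (hb : b ∈ IsLocalRing.maximalIdeal S)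
    (θ : (MvPowerSeries (Fin 2) S ⧸ J a) ≃+* (MvPowerSeries (Fin 2) S ⧸ J b))
    (hθa : θ (Ideal.Quotient.mk _ (C a)) = Ideal.Quotient.mk _ (C a))
    (hθm : ∀ c ∈ IsLocalRing.maximalIdeal S, ∃ W, θ (Ideal.Quotient.mk _ (C c)) =
      Ideal.Quotient.mk _ W ∧ MvPowerSeries.map (IsLocalRing.residue S) W = 0) :
    a ∈ Ideal.span {b} := by
  classical
  set π := MvPowerSeries.map (σ := Fin 2) (IsLocalRing.residue S) with hπdef
  have hres : ∀ x : S, IsLocalRing.residue S x = 0 ↔ x ∈ IsLocalRing.maximalIdeal S := fun x =>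
    IsLocalRing.residue_eq_zero_iff x
  obtain ⟨U, hU⟩ := Ideal.Quotient.mk_surjective (θ (Ideal.Quotient.mk _ (X 0)))
  obtain ⟨V, hV⟩ := Ideal.Quotient.mk_surjective (θ (Ideal.Quotient.mk _ (X 1)))
  have hU0 : constantCoeff U ∈ IsLocalRing.maximalIdeal S := constantCoeff_mem_of_not_isUnit b (by
    rw [hU, MulEquiv.isUnit_map]; exact not_isUnit_mk_X ha 0)
  have hV0 : constantCoeff V ∈ IsLocalRing.maximalIdeal S := constantCoeff_mem_of_not_isUnit b (by
    rw [hV, MulEquiv.isUnit_map]; exact not_isUnit_mk_X ha 1)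
  -- the linear parts of `U`, `V` span
  have key : ∀ s : Fin 2, ∃ p q : IsLocalRing.ResidueField S, ∀ t : Fin 2,
      (if t = s then 1 else 0) =
        p * IsLocalRing.residue S (coeff (Finsupp.single t 1) U) +
          q * IsLocalRing.residue S (coeff (Finsupp.single t 1) V) := by
    intro s
    obtain ⟨w, hw⟩ := Ideal.Quotient.mk_surjective (θ.symm (Ideal.Quotient.mk _ (X s)))
    have hw0 : constantCoeff w ∈ IsLocalRing.maximalIdeal S := constantCoeff_mem_of_not_isUnit a (by
      rw [hw, MulEquiv.isUnit_map]; exact not_isUnit_mk_X hb s)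
    obtain ⟨p, q, hpq⟩ := exists_decomp w
    obtain ⟨W, hW, hW'⟩ := hθm _ hw0
    obtain ⟨P, hP⟩ := Ideal.Quotient.mk_surjective (θ (Ideal.Quotient.mk _ p))
    obtain ⟨Q, hQ⟩ := Ideal.Quotient.mk_surjective (θ (Ideal.Quotient.mk _ q))
    have h1 : Ideal.Quotient.mk (J b) (X s) = Ideal.Quotient.mk (J b) (W + U * P + V * Q) := by
      rw [← RingEquiv.apply_symm_apply θ (Ideal.Quotient.mk _ (X s)), ← hw, hpq]
      simp only [map_add, map_mul, hW, hU, hV, hP, hQ]
    rw [Ideal.Quotient.mk_eq_mk_iff_sub_mem, Ideal.mem_span_singleton'] at h1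
    obtain ⟨g, hg⟩ := h1
    refine ⟨IsLocalRing.residue S (constantCoeff P), IsLocalRing.residue S (constantCoeff Q),
      fun t => ?_⟩
    have h2 := congrArg (fun f => IsLocalRing.residue S (coeff (Finsupp.single t 1) f)) hg
    have hWt : IsLocalRing.residue S (coeff (Finsupp.single t 1) W) = 0 := by
      have := congrArg (coeff (Finsupp.single t 1)) hW'
      simpa [hπdef] using this
    simp only [coeff_single_one_mul, map_sub, map_add, map_mul, constantCoeff_X, constantCoeff_C,
      coeff_C, hWt, (hres _).mpr hU0, (hres _).mpr hV0, (hres _).mpr hb, coeff_index_single_X,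
      Finsupp.single_eq_zero, one_ne_zero, if_false, map_zero, zero_mul, mul_zero, zero_add,
      add_zero, sub_zero] at h2
    split_ifs with hts
    · simp only [hts, if_true, map_one] at h2 ⊢
      linear_combination -h2
    · simp only [hts, if_false, map_zero] at h2 ⊢
      linear_combination -h2
  -- the product
  have hUV : Ideal.Quotient.mk (J b) (U * V) = Ideal.Quotient.mk (J b) (C a) := by
    rw [map_mul, hU, hV, ← map_mul, ← map_mul, ← hθa]
    congr 1
    rw [Ideal.Quotient.mk_eq_mk_iff_sub_mem]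
    exact Ideal.mem_span_singleton_self _
  rw [Ideal.Quotient.mk_eq_mk_iff_sub_mem, Ideal.mem_span_singleton'] at hUV
  obtain ⟨g, hg⟩ := hUV
  set r := constantCoeff U with hr
  set s := constantCoeff V with hs
  set α := coeff (Finsupp.single (0 : Fin 2) 1) U
  set β := coeff (Finsupp.single (1 : Fin 2) 1) U
  set γ := coeff (Finsupp.single (0 : Fin 2) 1) V
  set δ := coeff (Finsupp.single (1 : Fin 2) 1) V
  have hlin : ∀ t : Fin 2, r * coeff (Finsupp.single t 1) V + coeff (Finsupp.single t 1) U * s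
      ∈ Ideal.span {b} := by
    intro t
    have h2 := congrArg (coeff (Finsupp.single t 1)) hg
    simp only [coeff_single_one_mul, map_sub, map_mul, constantCoeff_X, constantCoeff_C,
      coeff_C, Finsupp.single_eq_zero, one_ne_zero, if_false, zero_mul, mul_zero, add_zero,
      zero_add, sub_zero, zero_sub, mul_neg] at h2
    rw [← h2]
    exact neg_mem (Ideal.mul_mem_left _ _ (Ideal.mem_span_singleton_self b))
  have hconst : r * s - a ∈ Ideal.span {b} := by
    have h2 := congrArg constantCoeff hg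
    simp only [map_sub, map_mul, constantCoeff_X, constantCoeff_C, zero_mul, zero_sub,
      mul_neg] at h2
    rw [← h2]
    exact neg_mem (Ideal.mul_mem_left _ _ (Ideal.mem_span_singleton_self b))
  have hdet : IsUnit (α * δ - β * γ) := by
    obtain ⟨p, q, hpq⟩ := key 0
    obtain ⟨p', q', hpq'⟩ := key 1
    have e1 := hpq 0
    have e2 := hpq 1
    have e3 := hpq' 0
    have e4 := hpq' 1
    simp only [Fin.isValue, if_true, zero_ne_one, one_ne_zero, if_false] at e1 e2 e3 e4
    rw [← IsLocalRing.residue_ne_zero_iff_isUnit]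
    intro h
    rw [map_sub, map_mul, map_mul] at h
    refine one_ne_zero (α := IsLocalRing.ResidueField S) ?_
    linear_combination (p * q' - p' * q) * h + e1 + e4 * (p * IsLocalRing.residue S α +
      q * IsLocalRing.residue S γ) - e2 * (p' * IsLocalRing.residue S α + q' * IsLocalRing.residue S γ)
  have h0 := hlin 0
  have h1 := hlin 1
  have hr' : r ∈ Ideal.span {b} := by
    refine (Ideal.unit_mul_mem_iff_mem _ hdet).mp ?_
    have : (α * δ - β * γ) * r = α * (r * δ + β * s) - β * (r * γ + α * s) := by ring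
    rw [this]
    exact sub_mem (Ideal.mul_mem_left _ _ h1) (Ideal.mul_mem_left _ _ h0)
  simpa using sub_mem (Ideal.mul_mem_right s _ hr') hconst

/-- `aR̂ ⊆ bR̂` implies `a ∈ bR`. -/
theorem mem_span_of_algebraMap_mem {R : Type*} [CommRing R] [IsLocalRing R] [IsNoetherianRing R]
    {a b : R} (h : algebraMap R (AdicCompletion (IsLocalRing.maximalIdeal R) R) a ∈
      Ideal.span {algebraMap R (AdicCompletion (IsLocalRing.maximalIdeal R) R) b}) :
    a ∈ Ideal.span {b} := by
  set m := IsLocalRing.maximalIdeal R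
  by_cases htop : Ideal.span {b} = ⊤
  · rw [htop]; exact Submodule.mem_top
  rw [Ideal.mem_span_singleton'] at h
  obtain ⟨c, hc⟩ := h
  have hn : ∀ n : ℕ, a ∈ Ideal.span {b} ⊔ m ^ n := by
    intro n
    obtain ⟨c', hc'⟩ := Ideal.Quotient.mk_surjective (AdicCompletion.evalₐ m n c)
    have h2 := congrArg (AdicCompletion.evalₐ m n) hc
    rw [map_mul, ← hc', AlgHom.commutes, AlgHom.commutes, Ideal.Quotient.algebraMap_eq,
      ← map_mul, Ideal.Quotient.mk_eq_mk_iff_sub_mem] at h2
    have : a = c' * b - (c' * b - a) := by ring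
    rw [this]
    exact Submodule.sub_mem_sup (Ideal.mul_mem_left _ _ (Ideal.mem_span_singleton_self b)) h2
  let I := Ideal.span {b}
  haveI : Nontrivial (R ⧸ I) := Ideal.Quotient.nontrivial_iff.mpr htop
  haveI : IsLocalRing (R ⧸ I) :=
    IsLocalRing.of_surjective' (Ideal.Quotient.mk I) Ideal.Quotient.mk_surjective
  haveI : IsNoetherianRing (R ⧸ I) :=
    isNoetherianRing_of_surjective R _ (Ideal.Quotient.mk I) Ideal.Quotient.mk_surjective
  have hk : Ideal.Quotient.mk I a ∈ ⨅ n : ℕ, (m.map (Ideal.Quotient.mk I)) ^ n := by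
    refine Submodule.mem_iInf _ |>.mpr fun n => ?_
    rw [← Ideal.map_pow]
    obtain ⟨u, hu, v, hv, huv⟩ := Submodule.mem_sup.mp (hn n)
    rw [← huv, map_add, Ideal.Quotient.eq_zero_iff_mem.mpr hu, zero_add]
    exact Ideal.mem_map_of_mem _ hv
  rw [Ideal.iInf_pow_eq_bot_of_isLocalRing, Submodule.mem_bot,
    Ideal.Quotient.eq_zero_iff_mem] at hk
  · exact hk
  · intro htop'
    have := congrArg (Ideal.comap (Ideal.Quotient.mk I)) htop'
    rw [Ideal.comap_map_of_surjective _ Ideal.Quotient.mk_surjective, Ideal.comap_top,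
      ← RingHom.ker_eq_comap_bot, Ideal.mk_ker, sup_eq_left.mpr (IsLocalRing.le_maximalIdeal htop)]
      at this
    exact (IsLocalRing.maximalIdeal.isMaximal R).ne_top this

end DualGr22
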